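import Mathlib.CategoryTheory.Abelian.Basic
import Mathlib.Algebra.Homology.ShortComplex.ExactFunctor
import Mathlib.CategoryTheory.Adjunction.FullyFaithful
import Mathlib.CategoryTheory.Limits.Preserves.Shapes.Kernels

/-!
Essential images of exact fully faithful left adjoints.
-/

set_option autoImplicit false

open CategoryTheory CategoryTheory.Limits

namespace Groth.Agent.Lib.SerreSub.AdjImage

universe v₁ v₂ u₁ u₂

variable {A : Type u₁} [Category.{v₁} A] [Abelian A] {B : Type u₂} [Category.{v₂} B] [Abelian B]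

/-- Kernels and cokernels stay in the essential image. -/
theorem kernel_cokernel_mem (L : A ⥤ B) [L.Full] [PreservesFiniteLimits L]
    [PreservesFiniteColimits L] [L.PreservesZeroMorphisms] {F G : B} (φ : F ⟶ G)
    (hF : L.essImage F) (hG : L.essImage G) :
    L.essImage (kernel φ) ∧ L.essImage (cokernel φ) := by
  obtain ⟨F₀, ⟨e₁⟩⟩ := hF
  obtain ⟨G₀, ⟨e₂⟩⟩ := hG
  let ψ : F₀ ⟶ G₀ := L.preimage (e₁.hom ≫ φ ≫ e₂.inv)
  have hψ : L.map ψ ≫ e₂.hom = e₁.hom ≫ φ := by simp [ψ]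
  exact ⟨⟨kernel ψ, ⟨PreservesKernel.iso L ψ ≪≫ kernel.mapIso _ φ e₁ e₂ hψ⟩⟩,
    ⟨cokernel ψ, ⟨PreservesCokernel.iso L ψ ≪≫ cokernel.mapIso _ φ e₁ e₂ hψ⟩⟩⟩

variable {L : A ⥤ B} {R : B ⥤ A} (adj : L ⊣ R) [R.PreservesZeroMorphisms]
  [L.PreservesZeroMorphisms] [IsIso adj.unit]

include adj in
lemma isIso_counit {F : B} (hF : L.essImage F) : IsIso (adj.counit.app F) := by
  haveI := adj.fullyFaithfulLOfIsIsoUnit.full
  haveI := adj.fullyFaithfulLOfIsIsoUnit.faithful
  exact adj.isIso_counit_app_iff_mem_essImage.mpr hF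

include adj in
/-- Extensions stay in the essential image. -/
theorem extension_mem
    (hL : ∀ {S : ShortComplex A}, S.ShortExact → (S.map L).ShortExact)
    (hR : ∀ {S : ShortComplex B}, S.ShortExact → L.essImage S.X₁ → (S.map R).ShortExact)
    {T : ShortComplex B} (hT : T.ShortExact) (h₁ : L.essImage T.X₁) (h₃ : L.essImage T.X₃) :
    L.essImage T.X₂ := by
  let φ : (T.map R).map L ⟶ T :=
    { τ₁ := adj.counit.app T.X₁
      τ₂ := adj.counit.app T.X₂
      τ₃ := adj.counit.app T.X₃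
      comm₁₂ := (adj.counit.naturality T.f).symm
      comm₂₃ := (adj.counit.naturality T.g).symm }
  haveI : IsIso φ.τ₁ := isIso_counit adj h₁
  haveI : IsIso φ.τ₃ := isIso_counit adj h₃
  haveI : IsIso φ.τ₂ := ShortComplex.isIso₂_of_shortExact_of_isIso₁₃ φ (hL (hR hT h₁)) hT
  exact ⟨R.obj T.X₂, ⟨@asIso _ _ _ _ φ.τ₂ this⟩⟩

end Groth.Agent.Lib.SerreSub.AdjImage
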