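import Groth.Agent.Lib.AR.Chain
import Mathlib.CategoryTheory.Abelian.SerreClass.Basic
import Mathlib.Algebra.Homology.Refinements
import Mathlib.Algebra.Homology.QuasiIso
import Mathlib.Algebra.Homology.Embedding.CochainComplex

/-!
# Quasi-isomorphic subcomplexes with terms in a Serre class
-/

universe v u

open CategoryTheory CategoryTheory.Limits

namespace Groth.Agent.Lib.SerreSub.Subcomplex

open Groth.Agent.Lib.AR

attribute [local instance] Abelian.hasFiniteBiproducts

variable {A : Type u} [Category.{v} A] [Abelian A] (P : ObjectProperty A) [P.IsSerreClass]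

/-- Objects of the class can be lifted along epimorphisms. -/
def Liftable : Prop :=
  ∀ (X Y : A) (π : X ⟶ Y), Epi π → P Y → ∃ (X' : A) (i : X' ⟶ X), Mono i ∧ P X' ∧ Epi (i ≫ π)

variable {P}

lemma prop_imageSubobject {W X : A} (f : W ⟶ X) (hW : P W) :
    P ((imageSubobject f : Subobject X) : A) :=
  P.prop_of_epi (factorThruImageSubobject f) hW

lemma prop_bot (X : A) : P ((⊥ : Subobject X) : A) :=
  P.prop_of_isZero (IsZero.of_mono_eq_zero (⊥ : Subobject X).arrow Subobject.bot_arrow)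

variable {K : CochainComplex A ℤ}

/-- The properties required from the piece `S'` in degree `n`, given the piece `S` in degree
`n + 1`. -/
structure IsStep (n : ℤ) (S : Subobject (K.X (n + 1))) (S' : Subobject (K.X n)) : Prop where
  prop : P (S' : A)
  le : ImLE (S'.arrow ≫ K.d n (n + 1)) S.arrow
  cycle : ∀ {T : A} (x : T ⟶ K.X n), x ≫ K.d n (n + 1) = 0 →
    ∃ (T' : A) (π : T' ⟶ T) (_ : Epi π) (z : T' ⟶ (S' : A)) (y : T' ⟶ K.X (n - 1)),
      π ≫ x = z ≫ S'.arrow + y ≫ K.d (n - 1) n
  bdry : ∀ {T : A} (x : T ⟶ K.X n), ImLE (x ≫ K.d n (n + 1)) S.arrow →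
    ∃ (T' : A) (π : T' ⟶ T) (_ : Epi π) (z : T' ⟶ (S' : A)),
      π ≫ x ≫ K.d n (n + 1) = z ≫ S'.arrow ≫ K.d n (n + 1)

lemma exists_isStep (hl : Liftable P) (n : ℤ) (hH : P (K.homology n))
    (S : Subobject (K.X (n + 1))) (hS : P (S : A)) :
    ∃ S' : Subobject (K.X n), IsStep (P := P) n S S' := by
  let W := preim (K.d n (n + 1)) S
  have hW : ImLE (W.arrow ≫ K.d n (n + 1)) S.arrow := (imLE_preim_iff _ _ _).1 (ImLE.refl _)
  obtain ⟨X', i, hi, hX', hie⟩ := hl _ _ (factorThruImageSubobject hW.lift) inferInstance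
    (P.prop_of_mono (imageSubobject hW.lift).arrow hS)
  obtain ⟨Z', j, hj, hZ', hje⟩ := hl _ _ (K.homologyπ n) inferInstance hH
  let a : X' ⟶ K.X n := i ≫ W.arrow
  let b : Z' ⟶ K.X n := j ≫ K.iCycles n
  let f := biprod.desc a b
  refine ⟨imageSubobject f, ⟨prop_imageSubobject _ (P.prop_biprod hX' hZ'), ?_, ?_, ?_⟩⟩
  · refine ImLE.of_epi_left (factorThruImageSubobject f) ?_
    rw [imageSubobject_arrow_comp_assoc]
    rw [show f ≫ K.d n (n + 1) = biprod.fst ≫ (i ≫ hW.lift ≫ S.arrow) by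
      rw [ImLE.lift_comp]
      apply biprod.hom_ext' <;> simp [f, a, b]]
    exact ImLE.of_eq (biprod.fst ≫ i ≫ hW.lift) (by simp)
  · intro T x hx
    let c := K.liftCycles x (n + 1) (by simp) hx
    obtain ⟨T₁, π₁, _, w, hw⟩ :=
      surjective_up_to_refinements_of_epi (j ≫ K.homologyπ n) (c ≫ K.homologyπ n)
    obtain ⟨T₂, π₂, _, y, hy⟩ := (K.comp_homologyπ_eq_iff_up_to_refinements (n - 1) n (by simp)
      (π₁ ≫ c) (w ≫ j)).1 (by rw [Category.assoc, hw, Category.assoc])
    refine ⟨T₂, π₂ ≫ π₁, epi_comp _ _, π₂ ≫ w ≫ biprod.inr ≫ factorThruImageSubobject f, y, ?_⟩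
    have := congrArg (· ≫ K.iCycles n) hy
    simp only [Preadditive.add_comp, Category.assoc, HomologicalComplex.toCycles_i] at this
    simp only [Category.assoc, imageSubobject_arrow_comp, f, biprod.inr_desc, b]
    rw [← this]
    simp [c]
  · intro T x hx
    have hxW : ImLE x W.arrow := (imLE_preim_iff _ _ _).2 hx
    obtain ⟨T₁, π₁, _, w, hw⟩ := surjective_up_to_refinements_of_epi
      (i ≫ factorThruImageSubobject hW.lift) (hxW.lift ≫ factorThruImageSubobject hW.lift)
    refine ⟨T₁, π₁, inferInstance, w ≫ biprod.inl ≫ factorThruImageSubobject f, ?_⟩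
    have := congrArg (· ≫ (imageSubobject hW.lift).arrow ≫ S.arrow) hw
    simp only [Category.assoc, imageSubobject_arrow_comp_assoc, ImLE.lift_comp,
      ImLE.lift_comp_assoc] at this
    simp only [Category.assoc, imageSubobject_arrow_comp_assoc, f, biprod.inl_desc_assoc, a]
    exact this

/-- An auxiliary descending recursion. -/
noncomputable def pieces (hl : Liftable P) (hH : ∀ n, P (K.homology n)) :
    ℕ → ∀ n, { S : Subobject (K.X n) // P (S : A) }
  | 0 => fun n => ⟨⊥, prop_bot _⟩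
  | k + 1 => fun n =>
      ⟨(exists_isStep hl n (hH n) _ (pieces hl hH k (n + 1)).2).choose,
        (exists_isStep hl n (hH n) _ (pieces hl hH k (n + 1)).2).choose_spec.prop⟩

lemma exists_pieces (b : ℤ) [K.IsStrictlyLE b] (hl : Liftable P) (hH : ∀ n, P (K.homology n)) :
    ∃ S : ∀ n, Subobject (K.X n), ∀ n, IsStep (P := P) n (S (n + 1)) (S n) := by
  refine ⟨fun n => (pieces hl hH (b + 1 - n).toNat n).1, fun n => ?_⟩
  by_cases hn : n ≤ b
  · obtain ⟨k, hk⟩ : ∃ k : ℕ, (b + 1 - n).toNat = k + 1 :=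
      ⟨(b + 1 - n).toNat - 1, by omega⟩
    have hk' : (b + 1 - (n + 1)).toNat = k := by omega
    simp only [hk, hk']
    exact (exists_isStep hl n (hH n) _ (pieces hl hH k (n + 1)).2).choose_spec
  · have hz : IsZero (K.X n) := K.isZero_of_isStrictlyLE b n (by omega)
    exact ⟨(pieces hl hH _ n).2,
      by rw [hz.eq_of_tgt (Subobject.arrow _) 0, zero_comp]; exact ImLE.zero _,
      fun x _ => ⟨_, 𝟙 _, inferInstance, 0, 0, hz.eq_of_tgt _ _⟩,
      fun x _ => ⟨_, 𝟙 _, inferInstance, 0, by rw [hz.eq_of_tgt x 0]; simp⟩⟩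

variable (K) in
/-- Bounded above complexes with cohomology in `P` contain a quasi-isomorphic subcomplex with
terms in `P`. -/
theorem exists_subcomplex (b : ℤ) [K.IsStrictlyLE b] (hl : Liftable P) (hH : ∀ n, P (K.homology n)) :
    ∃ (K' : CochainComplex A ℤ) (i : K' ⟶ K), QuasiIso i ∧ K'.IsStrictlyLE b ∧
      ∀ n, P (K'.X n) := by
  obtain ⟨S, hS⟩ := exists_pieces b hl hH
  let d : ∀ n, (S n : A) ⟶ (S (n + 1) : A) := fun n => (hS n).le.lift
  have hd : ∀ n, d n ≫ (S (n + 1)).arrow = (S n).arrow ≫ K.d n (n + 1) :=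
    fun n => (hS n).le.lift_comp
  let K' : CochainComplex A ℤ := CochainComplex.of (fun n => (S n : A)) d fun n => by
    rw [← cancel_mono (S (n + 1 + 1)).arrow, Category.assoc, hd, ← Category.assoc, hd,
      Category.assoc, HomologicalComplex.d_comp_d, comp_zero, zero_comp]
  let i : K' ⟶ K :=
    { f := fun n => (S n).arrow
      comm' := fun p q h => by
        obtain rfl : p + 1 = q := h
        simp only [K', CochainComplex.of_d]
        exact (hd p).symm }
  have hKd : ∀ p, K'.d p (p + 1) = d p := fun p => by simp [K']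
  refine ⟨K', i, ⟨fun n => ?_⟩, ?_, fun n => (hS n).prop⟩
  · rw [quasiIsoAt_iff_isIso_homologyMap]
    have hm : Mono (HomologicalComplex.homologyMap i n) := by
      rw [HomologicalComplex.mono_homologyMap_iff_up_to_refinements i (n - 1) n (n + 1) (by simp)
        (by simp)]
      intro T x _ y hy
      obtain ⟨m, rfl⟩ : ∃ m, n = m + 1 := ⟨n - 1, by omega⟩
      have e : m + 1 - 1 = m := by omega
      revert y
      rw [e]
      intro y hy
      have hle : ImLE (y ≫ K.d m (m + 1)) (S (m + 1)).arrow := ImLE.of_eq x hy.symm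
      obtain ⟨T', π, hπ, z, hz⟩ := (hS m).bdry y hle
      refine ⟨T', π, hπ, z, ?_⟩
      rw [hKd]
      change π ≫ x = z ≫ d m
      rw [← cancel_mono (S (m + 1)).arrow, Category.assoc, Category.assoc, hd, ← hz]
      exact congrArg (π ≫ ·) hy
    have he : Epi (HomologicalComplex.homologyMap i n) := by
      rw [HomologicalComplex.epi_homologyMap_iff_up_to_refinements i (n - 1) n (n + 1) (by simp)
        (by simp)]
      intro T x hx
      obtain ⟨T', π, hπ, z, y, hzy⟩ := (hS n).cycle x hx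
      refine ⟨T', π, hπ, z, ?_, y, hzy⟩
      rw [hKd]
      change z ≫ d n = 0
      rw [← cancel_mono (S (n + 1)).arrow, Category.assoc, hd, zero_comp]
      have := congrArg (· ≫ K.d n (n + 1)) hzy
      simpa [hx] using this.symm
    exact isIso_of_mono_of_epi _
  · rw [CochainComplex.isStrictlyLE_iff]
    intro n hn
    exact IsZero.of_mono (S n).arrow (K.isZero_of_isStrictlyLE b n hn)

end Groth.Agent.Lib.SerreSub.Subcomplex
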